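import Cfsg.Agent.H58.S8.Iso
import Cfsg.Agent.H498.SporOut
import Cfsg.Agent.S2034
import Cfsg.Agent.S2035
import Cfsg.Agent.S2036
import Cfsg.Agent.S2037
import Cfsg.Agent.S2038
import Cfsg.Agent.S2039
import Cfsg.Agent.S2040
import Cfsg.Agent.S2041
import Cfsg.Agent.S2042
import Cfsg.Agent.S2043
import Cfsg.Agent.S2044
import Cfsg.Agent.S2045
import Cfsg.Agent.S2046
import Cfsg.Agent.S2047
import Cfsg.Agent.S2048
import Cfsg.Agent.S2049
import Cfsg.Agent.S2050
import Cfsg.Agent.S2051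
import Cfsg.Agent.S2052
import Cfsg.Agent.S2053
import Cfsg.Agent.S2054
import Cfsg.Agent.S2055
import Cfsg.Agent.S2056
import Cfsg.Agent.S2057
import Cfsg.Agent.S2058
import Cfsg.Agent.S2059
import Cfsg.Agent.S2060
import Cfsg.Agent.S2061
import Cfsg.Agent.S2062
import Cfsg.Agent.S2063
import Cfsg.Agent.S2064
import Cfsg.Agent.S2065
import Cfsg.Agent.S2066
import Cfsg.Agent.S2067
import Cfsg.Agent.S2068
import Cfsg.Agent.S2069
import Cfsg.Agent.S2070
import Cfsg.Agent.S2071
import Cfsg.Agent.S2072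
import Cfsg.Agent.S2073
import Cfsg.Agent.S2074
import Cfsg.Agent.S2075
import Cfsg.Agent.S2076
import Cfsg.Agent.S2077
import Cfsg.Agent.S2078
import Cfsg.Agent.S2079
import Cfsg.Agent.S2080
import Cfsg.Agent.S2081
import Cfsg.Agent.S2082
import Cfsg.Agent.S2083
import Cfsg.Agent.S2084
import Cfsg.Agent.S2085

/-!
# The multipliers and the outer automorphism groups of the simple groups of sporadic order (helper58)

* `mult_of` : central extensions by elementary data: kernels of perfect central extensions are cyclic if the multiplier is;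
* `mo_m11`, ..., `mo_m` : `MO c X`, `c = |Out X|`: the field `mult` and the first half of the field `out` of
  `H704.S8.Row`.
-/

set_option autoImplicit false

namespace Cfsg.Agent.H58.S8

open Cfsg

universe u v w

/-- kernels of perfect central extensions are cyclic -/
theorem mult_of {M : Type} [Group M] {n : ℕ} (h : HasCyclicSchurMultiplier M n) {X : Type v} [Group X] (e : X ≃* M)
    {N : Type u} [Group N] [Finite N] (V : Subgroup N) [V.Normal] (hc : V ≤ Subgroup.center N)
    (hN : commutator N = ⊤) (hX : Nonempty ((N ⧸ V) ≃* X)) : IsCyclic V := by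
  obtain ⟨f⟩ := hX
  let E : Shrink.{0} N ≃* N := Shrink.mulEquiv
  let σ : Shrink.{0} N →* M :=
    (e.toMonoidHom.comp f.toMonoidHom).comp ((QuotientGroup.mk' V).comp E.toMonoidHom)
  have hker : ∀ x : Shrink.{0} N, x ∈ σ.ker ↔ E x ∈ V := by
    intro x
    rw [MonoidHom.mem_ker]
    show e (f (QuotientGroup.mk' V (E x))) = 1 ↔ _
    rw [EmbeddingLike.map_eq_one_iff, EmbeddingLike.map_eq_one_iff]
    exact QuotientGroup.eq_one_iff _
  have hstem : IsStemExtension σ := by
    refine ⟨?_, ?_, ?_⟩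
    · intro m
      obtain ⟨x, hx⟩ := QuotientGroup.mk'_surjective V (f.symm (e.symm m))
      refine ⟨E.symm x, ?_⟩
      show e (f (QuotientGroup.mk' V (E (E.symm x)))) = m
      rw [E.apply_symm_apply, hx, f.apply_symm_apply, e.apply_symm_apply]
    · intro x hx
      rw [Subgroup.mem_center_iff]
      intro y
      apply E.injective
      rw [map_mul, map_mul]
      exact Subgroup.mem_center_iff.1 (hc ((hker x).1 hx)) (E y)
    · have h1 : commutator (Shrink.{0} N) = ⊤ := by
        have h2 : (commutator (Shrink.{0} N)).map E.toMonoidHom = commutator N := by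
          rw [commutator_def, commutator_def, Subgroup.map_commutator, ← MonoidHom.range_eq_map]
          have h3 : E.toMonoidHom.range = ⊤ := MonoidHom.range_eq_top.2 E.surjective
          rw [h3]
        rw [hN] at h2
        rw [eq_top_iff]
        intro x _
        have h3 : E x ∈ (commutator (Shrink.{0} N)).map E.toMonoidHom := by rw [h2]; trivial
        obtain ⟨y, hy, hyx⟩ := h3
        have h4 : y = x := E.injective hyx
        rwa [← h4]
      rw [h1]
      exact le_top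
  have hfin : Finite (Shrink.{0} N) := Finite.of_equiv N E.symm.toEquiv
  obtain ⟨π, hπ⟩ := h.2 (Shrink.{0} N) σ hstem
  let ψ : σ.ker →* V :=
    { toFun := fun x => ⟨E x, (hker x).1 x.2⟩
      map_one' := Subtype.ext (map_one E)
      map_mul' := fun x y => Subtype.ext (map_mul E _ _) }
  have hψ : Function.Surjective ψ := by
    rintro ⟨y, hy⟩
    refine ⟨⟨E.symm y, (hker _).2 (by rw [E.apply_symm_apply]; exact hy)⟩, Subtype.ext ?_⟩
    exact E.apply_symm_apply y
  exact isCyclic_of_surjective (ψ.comp π) (hψ.comp hπ)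

/-- `|Out X| = c` and the multiplier is cyclic -/
structure MO (c : ℕ) (X : Type v) [Group X] : Prop where
  out : (MulAut.conj : X →* MulAut X).range.index = c
  mult : ∀ {N : Type u} [Group N] [Finite N] (V : Subgroup N) [V.Normal], V ≤ Subgroup.center N → commutator N = ⊤ →
    Nonempty ((N ⧸ V) ≃* X) → IsCyclic V

theorem MO.mk' {M : Type} [Group M] {n c : ℕ} (hm : HasCyclicSchurMultiplier M n) (ho : Nat.card (Out M) = c)
    {X : Type v} [Group X] (h : Nonempty (X ≃* M)) : MO.{u} c X := by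
  obtain ⟨e⟩ := h
  refine ⟨?_, fun {N} _ _ V _ => mult_of hm e V⟩
  rw [H498.SporOut.index_congr e]
  exact ho

variable {X : Type v} [Group X] [Finite X]

theorem mo_m11 (h : IsM11 X) : MO.{u} 1 X := MO.mk' Cfsg.Agent.S2034.result Cfsg.Agent.S2060.result (iso_m11 h)

theorem mo_m12 (h : IsM12 X) : MO.{u} 2 X := MO.mk' Cfsg.Agent.S2035.result Cfsg.Agent.S2061.result (iso_m12 h)

theorem mo_m22 (h : IsM22 X) : MO.{u} 2 X := MO.mk' Cfsg.Agent.S2036.result Cfsg.Agent.S2062.result (iso_m22 h)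

theorem mo_m23 (h : IsM23 X) : MO.{u} 1 X := MO.mk' Cfsg.Agent.S2037.result Cfsg.Agent.S2063.result (iso_m23 h)

theorem mo_m24 (h : IsM24 X) : MO.{u} 1 X := MO.mk' Cfsg.Agent.S2038.result Cfsg.Agent.S2064.result (iso_m24 h)

theorem mo_j1 (h : IsJ1 X) : MO.{u} 1 X := MO.mk' Cfsg.Agent.S2039.result Cfsg.Agent.S2065.result (iso_j1 h)

theorem mo_j2 (h : IsJ2 X) : MO.{u} 2 X := MO.mk' Cfsg.Agent.S2040.result Cfsg.Agent.S2066.result (iso_j2 h)

theorem mo_j3 (h : IsJ3 X) : MO.{u} 2 X := by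
  obtain ⟨F, _, _, ω, hF, hω, e⟩ := iso_j3 h
  exact MO.mk' (Cfsg.Agent.S2041.result hF ω hω) (Cfsg.Agent.S2067.result hF ω hω) e

theorem mo_j4 (h : IsJ4 X) : MO.{u} 1 X := MO.mk' Cfsg.Agent.S2042.result Cfsg.Agent.S2068.result (iso_j4 h)

theorem mo_co1 (h : IsCo1 X) : MO.{u} 1 X := MO.mk' Cfsg.Agent.S2043.result Cfsg.Agent.S2069.result (iso_co1 h)

theorem mo_co2 (h : IsCo2 X) : MO.{u} 1 X := MO.mk' Cfsg.Agent.S2044.result Cfsg.Agent.S2070.result (iso_co2 h)

theorem mo_co3 (h : IsCo3 X) : MO.{u} 1 X := MO.mk' Cfsg.Agent.S2045.result Cfsg.Agent.S2071.result (iso_co3 h)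

theorem mo_hs (h : IsHS X) : MO.{u} 2 X := MO.mk' Cfsg.Agent.S2046.result Cfsg.Agent.S2072.result (iso_hs h)

theorem mo_mcl (h : IsMcL X) : MO.{u} 2 X := MO.mk' Cfsg.Agent.S2047.result Cfsg.Agent.S2073.result (iso_mcl h)

theorem mo_suz (h : IsSuz X) : MO.{u} 2 X := MO.mk' Cfsg.Agent.S2048.result Cfsg.Agent.S2074.result (iso_suz h)

theorem mo_he (h : IsHe X) : MO.{u} 2 X := MO.mk' Cfsg.Agent.S2049.result Cfsg.Agent.S2075.result (iso_he h)

theorem mo_ly (h : IsLy X) : MO.{u} 1 X := MO.mk' Cfsg.Agent.S2050.result Cfsg.Agent.S2076.result (iso_ly h)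

theorem mo_ru (h : IsRu X) : MO.{u} 1 X := MO.mk' Cfsg.Agent.S2051.result Cfsg.Agent.S2077.result (iso_ru h)

theorem mo_on (h : IsON X) : MO.{u} 2 X := MO.mk' Cfsg.Agent.S2052.result Cfsg.Agent.S2078.result (iso_on h)

theorem mo_fi22 (h : IsFi22 X) : MO.{u} 2 X := MO.mk' Cfsg.Agent.S2053.result Cfsg.Agent.S2079.result (iso_fi22 h)

theorem mo_fi23 (h : IsFi23 X) : MO.{u} 1 X := MO.mk' Cfsg.Agent.S2054.result Cfsg.Agent.S2080.result (iso_fi23 h)

theorem mo_fi24 (h : IsFi24' X) : MO.{u} 2 X := MO.mk' Cfsg.Agent.S2055.result Cfsg.Agent.S2081.result (iso_fi24 h)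

theorem mo_hn (h : IsHN X) : MO.{u} 2 X := MO.mk' Cfsg.Agent.S2056.result Cfsg.Agent.S2082.result (iso_hn h)

theorem mo_th (h : IsTh X) : MO.{u} 1 X := MO.mk' Cfsg.Agent.S2057.result Cfsg.Agent.S2083.result (iso_th h)

theorem mo_b (h : IsB X) : MO.{u} 1 X := MO.mk' Cfsg.Agent.S2058.result Cfsg.Agent.S2084.result (iso_b h)

theorem mo_m (h : IsM X) : MO.{u} 1 X := MO.mk' Cfsg.Agent.S2059.result Cfsg.Agent.S2085.result (iso_m h)

end Cfsg.Agent.H58.S8
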