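import Cfsg.Agent.S0000
import Cfsg.Agent.OrdDiv.Table
import Cfsg.Prelude.Def_Sporadic

/-!
# Simple groups with the order of a sporadic group (helper58)

`iso_m11`, ..., `iso_m` : a finite simple group with the order of a sporadic group is isomorphic to its model.
-/

set_option autoImplicit false
set_option maxRecDepth 100000

namespace Cfsg.Agent.H58.S8

open Cfsg Cfsg.Agent.OrdDiv

universe v

variable {X : Type v} [Group X] [Finite X]

theorem not_comm (hs : IsSimpleGroup X) {N : ℕ} (hc : Nat.card X = N) (h2 : 2 ∣ N) (h : 2 < N) :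
    ¬ ∀ a b : X, a * b = b * a := by
  intro hc'
  let _ : CommGroup X := { (inferInstance : Group X) with mul_comm := hc' }
  have h3 : (Nat.card X).Prime := IsSimpleGroup.prime_card
  rw [hc] at h3
  have := (Nat.prime_dvd_prime_iff_eq Nat.prime_two h3).1 h2
  omega

/-- the engine -/
theorem real_of (hs : IsSimpleGroup X) {N : ℕ} (hc : Nat.card X = N) (h2 : 2 ∣ N) (h : 2 < N) {l : List (ℕ × ℕ)}
    (hv : valid l N = true) {g : Grp} (hg : (cands l N).filter (fun g => Nat.beq (ordN g) N) = [g]) : Real g X := by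
  have := hs
  obtain ⟨g', hg', hr⟩ := exists_real_filter table Cfsg.Agent.S0000.result (not_comm hs hc h2 h) hv (dvd_of_eq hc)
    (fun n => Nat.beq n N) (by rw [hc]; exact Nat.beq_refl N)
  rw [hg, List.mem_singleton] at hg'
  rwa [hg'] at hr

theorem iso_m11 (h : IsM11 X) : Spor.IsoM11 X :=
  real_of h.1 h.2 (by norm_num) (by norm_num) (l := [(2, 4), (3, 2), (5, 1), (11, 1)]) (by decide +kernel)
    (g := .m11) (by decide +kernel)

theorem iso_m12 (h : IsM12 X) : Spor.IsoM12 X :=
  real_of h.1 h.2 (by norm_num) (by norm_num) (l := [(2, 6), (3, 3), (5, 1), (11, 1)]) (by decide +kernel)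
    (g := .m12) (by decide +kernel)

theorem iso_m22 (h : IsM22 X) : Spor.IsoM22 X :=
  real_of h.1 h.2 (by norm_num) (by norm_num) (l := [(2, 7), (3, 2), (5, 1), (7, 1), (11, 1)]) (by decide +kernel)
    (g := .m22) (by decide +kernel)

theorem iso_m23 (h : IsM23 X) : Spor.IsoM23 X :=
  real_of h.1 h.2 (by norm_num) (by norm_num) (l := [(2, 7), (3, 2), (5, 1), (7, 1), (11, 1), (23, 1)]) (by decide +kernel)
    (g := .m23) (by decide +kernel)

theorem iso_m24 (h : IsM24 X) : Spor.IsoM24 X :=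
  real_of h.1 h.2 (by norm_num) (by norm_num) (l := [(2, 10), (3, 3), (5, 1), (7, 1), (11, 1), (23, 1)]) (by decide +kernel)
    (g := .m24) (by decide +kernel)

theorem iso_j1 (h : IsJ1 X) : Spor.IsoJ1 X :=
  real_of h.1 h.2 (by norm_num) (by norm_num) (l := [(2, 3), (3, 1), (5, 1), (7, 1), (11, 1), (19, 1)]) (by decide +kernel)
    (g := .j1) (by decide +kernel)

theorem iso_j2 (h : IsJ2 X) : Spor.IsoJ2 X :=
  real_of h.1 h.2 (by norm_num) (by norm_num) (l := [(2, 7), (3, 3), (5, 2), (7, 1)]) (by decide +kernel)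
    (g := .j2) (by decide +kernel)

theorem iso_j3 (h : IsJ3 X) : Spor.IsoJ3 X :=
  real_of h.1 h.2 (by norm_num) (by norm_num) (l := [(2, 7), (3, 5), (5, 1), (17, 1), (19, 1)]) (by decide +kernel)
    (g := .j3) (by decide +kernel)

theorem iso_j4 (h : IsJ4 X) : Spor.IsoJ4 X :=
  real_of h.1 h.2 (by norm_num) (by norm_num) (l := [(2, 21), (3, 3), (5, 1), (7, 1), (11, 3), (23, 1), (29, 1), (31, 1), (37, 1), (43, 1)]) (by decide +kernel)
    (g := .j4) (by decide +kernel)

theorem iso_co1 (h : IsCo1 X) : Spor.IsoCo1 X :=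
  real_of h.1 h.2 (by norm_num) (by norm_num) (l := [(2, 21), (3, 9), (5, 4), (7, 2), (11, 1), (13, 1), (23, 1)]) (by decide +kernel)
    (g := .co1) (by decide +kernel)

theorem iso_co2 (h : IsCo2 X) : Spor.IsoCo2 X :=
  real_of h.1 h.2 (by norm_num) (by norm_num) (l := [(2, 18), (3, 6), (5, 3), (7, 1), (11, 1), (23, 1)]) (by decide +kernel)
    (g := .co2) (by decide +kernel)

theorem iso_co3 (h : IsCo3 X) : Spor.IsoCo3 X :=
  real_of h.1 h.2 (by norm_num) (by norm_num) (l := [(2, 10), (3, 7), (5, 3), (7, 1), (11, 1), (23, 1)]) (by decide +kernel)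
    (g := .co3) (by decide +kernel)

theorem iso_hs (h : IsHS X) : Spor.IsoHS X :=
  real_of h.1 h.2 (by norm_num) (by norm_num) (l := [(2, 9), (3, 2), (5, 3), (7, 1), (11, 1)]) (by decide +kernel)
    (g := .hs) (by decide +kernel)

theorem iso_mcl (h : IsMcL X) : Spor.IsoMcL X :=
  real_of h.1 h.2 (by norm_num) (by norm_num) (l := [(2, 7), (3, 6), (5, 3), (7, 1), (11, 1)]) (by decide +kernel)
    (g := .mcl) (by decide +kernel)

theorem iso_suz (h : IsSuz X) : Spor.IsoSuz X :=
  real_of h.1 h.2 (by norm_num) (by norm_num) (l := [(2, 13), (3, 7), (5, 2), (7, 1), (11, 1), (13, 1)]) (by decide +kernel)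
    (g := .suz) (by decide +kernel)

theorem iso_he (h : IsHe X) : Spor.IsoHe X :=
  real_of h.1 h.2 (by norm_num) (by norm_num) (l := [(2, 10), (3, 3), (5, 2), (7, 3), (17, 1)]) (by decide +kernel)
    (g := .he) (by decide +kernel)

theorem iso_ly (h : IsLy X) : Spor.IsoLy X :=
  real_of h.1 h.2 (by norm_num) (by norm_num) (l := [(2, 8), (3, 7), (5, 6), (7, 1), (11, 1), (31, 1), (37, 1), (67, 1)]) (by decide +kernel)
    (g := .ly) (by decide +kernel)

theorem iso_ru (h : IsRu X) : Spor.IsoRu X :=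
  real_of h.1 h.2 (by norm_num) (by norm_num) (l := [(2, 14), (3, 3), (5, 3), (7, 1), (13, 1), (29, 1)]) (by decide +kernel)
    (g := .ru) (by decide +kernel)

theorem iso_on (h : IsON X) : Spor.IsoON X :=
  real_of h.1 h.2 (by norm_num) (by norm_num) (l := [(2, 9), (3, 4), (5, 1), (7, 3), (11, 1), (19, 1), (31, 1)]) (by decide +kernel)
    (g := .on) (by decide +kernel)

theorem iso_fi22 (h : IsFi22 X) : Spor.IsoFi22 X :=
  real_of h.1 h.2 (by norm_num) (by norm_num) (l := [(2, 17), (3, 9), (5, 2), (7, 1), (11, 1), (13, 1)]) (by decide +kernel)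
    (g := .fi22) (by decide +kernel)

theorem iso_fi23 (h : IsFi23 X) : Spor.IsoFi23 X :=
  real_of h.1 h.2 (by norm_num) (by norm_num) (l := [(2, 18), (3, 13), (5, 2), (7, 1), (11, 1), (13, 1), (17, 1), (23, 1)]) (by decide +kernel)
    (g := .fi23) (by decide +kernel)

theorem iso_fi24 (h : IsFi24' X) : Spor.IsoFi24' X :=
  real_of h.1 h.2 (by norm_num) (by norm_num) (l := [(2, 21), (3, 16), (5, 2), (7, 3), (11, 1), (13, 1), (17, 1), (23, 1), (29, 1)]) (by decide +kernel)
    (g := .fi24) (by decide +kernel)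

theorem iso_hn (h : IsHN X) : Spor.IsoHN X :=
  real_of h.1 h.2 (by norm_num) (by norm_num) (l := [(2, 14), (3, 6), (5, 6), (7, 1), (11, 1), (19, 1)]) (by decide +kernel)
    (g := .hn) (by decide +kernel)

theorem iso_th (h : IsTh X) : Spor.IsoTh X :=
  real_of h.1 h.2 (by norm_num) (by norm_num) (l := [(2, 15), (3, 10), (5, 3), (7, 2), (13, 1), (19, 1), (31, 1)]) (by decide +kernel)
    (g := .th) (by decide +kernel)

theorem iso_b (h : IsB X) : Spor.IsoB X :=
  real_of h.1 h.2 (by norm_num) (by norm_num) (l := [(2, 41), (3, 13), (5, 6), (7, 2), (11, 1), (13, 1), (17, 1), (19, 1), (23, 1), (31, 1), (47, 1)]) (by decide +kernel)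
    (g := .b) (by decide +kernel)

theorem iso_m (h : IsM X) : Spor.IsoM X :=
  real_of h.1 h.2 (by norm_num) (by norm_num) (l := [(2, 46), (3, 20), (5, 9), (7, 6), (11, 2), (13, 3), (17, 1), (19, 1), (23, 1), (29, 1), (31, 1), (41, 1), (47, 1), (59, 1), (71, 1)]) (by decide +kernel)
    (g := .m) (by decide +kernel)

end Cfsg.Agent.H58.S8
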