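import Cfsg.Agent.H597.S8.EThreeB
import Cfsg.Agent.H273.S8.F24All
import Cfsg.Agent.H26.S8.FiE2b
import Cfsg.Agent.H217.S8.KFi24B
import Cfsg.Agent.H320.SD.ChiefOf

/-!
# `Chief 2 D Fi24'` (helper58, for S4908)

Every element `≠ 1` of `Fi24'` has index at least `2^36` on every module without fixed points; `k(Fi24') ≤ 2^34`.
The inputs: `E2` (helper26, the group `2^11`), `i_cc`, `i_nc` (helper597, the group `3^(1+10)`), `allz` (helper273) and the
class number bound (helper217).
-/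

set_option autoImplicit false
set_option exponentiation.threshold 5000
set_option linter.unusedSectionVars false
set_option linter.constructorNameAsVariable false

namespace Cfsg.Agent.H58.S8.Fi24

open Cfsg Cfsg.Agent.H320.SD
open Cfsg.Agent.R08.FiTwentyFour (L)
open Cfsg.Agent.H597.S8.E3 (pr)
open Cfsg.Spor (Fi24 Fi24')

universe u v

section Act

variable {A : Type u} [AddCommGroup A] [Finite A] [DistribMulAction Fi24' A]

/-- class `2A`, `r = 3` -/
theorem i_cc3 [Nontrivial A] (hexp : ∀ x : A, 3 • x = 0) (hfix : ∀ x : A, (∀ g : Fi24', g • x = x) → x = 0)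
    {a b : Fi24} (ha : a ∈ L) (hb : b ∈ L) (hne : a ≠ b) (hc : Commute a b) :
    2 ^ 324 ≤ (fx A (pr ha hb)).index := by
  have hl := Cfsg.Agent.R08.FiTwentyFour.gen_mem_L .l
  have hg := Cfsg.Agent.R08.FiTwentyFour.gen_mem_L .a
  have hcc : Commute (Cfsg.Agent.Fischer.Fi24Rep.gen .l) (Cfsg.Agent.Fischer.Fi24Rep.gen .a) := by
    have h := Cfsg.Agent.H597.S8.E3.comm_of (v := [.l]) (w := [.a]) (by decide +kernel)
    rwa [Cfsg.Agent.H26.RIM.Fi24Dat.word_one, Cfsg.Agent.H26.RIM.Fi24Dat.word_one] at h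
  have hnn : Cfsg.Agent.Fischer.Fi24Rep.gen .l ≠ Cfsg.Agent.Fischer.Fi24Rep.gen .a := by
    have h := Cfsg.Agent.H597.S8.E3.ne_of (v := [.l]) (w := [.a]) 32 (by decide +kernel)
    rwa [Cfsg.Agent.H26.RIM.Fi24Dat.word_one, Cfsg.Agent.H26.RIM.Fi24Dat.word_one] at h
  rw [Cfsg.Agent.H597.S8.E3.cc_eq ha hb hl hg hne hc hnn hcc]
  have h := Cfsg.Agent.H26.S8.FiE2b.E2' (A := A) Nat.prime_three (by norm_num) hexp hfix
    (Cfsg.Agent.R08.FiTwentyFour.mul_mem_commutator hl hg)
  refine le_trans ?_ h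
  norm_num

theorem bd [Nontrivial A] {r : ℕ} (hr : r.Prime) (hexp : ∀ x : A, r • x = 0)
    (hfix : ∀ x : A, (∀ g : Fi24', g • x = x) → x = 0) {a b : Fi24} (ha : a ∈ L) (hb : b ∈ L) (hne : a ≠ b) :
    2 ^ 162 ≤ (fx A (pr ha hb)).index := by
  by_cases h3 : r = 3
  · subst h3
    by_cases hc : Commute a b
    · exact le_trans (by norm_num) (i_cc3 hexp hfix ha hb hne hc)
    · -- a commuting pair
      obtain ⟨a', b', ha', hb', hne', hc'⟩ : ∃ a' b', a' ∈ L ∧ b' ∈ L ∧ a' ≠ b' ∧ Commute a' b' := by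
        have h1 := Cfsg.Agent.R08.FiTwentyFour.ncard_commuting ha
        have h2 : ({c | c ∈ L ∧ c ≠ a ∧ Commute c a} : Set Fi24).Nonempty := by
          rw [Set.nonempty_iff_ne_empty]
          intro h
          rw [h, Set.ncard_empty] at h1
          exact absurd h1 (by norm_num)
        obtain ⟨c, hc1, hc2, hc3⟩ := h2
        exact ⟨c, a, hc1, ha, hc2, hc3⟩
      have h1 := (i_cc3 hexp hfix ha' hb' hne' hc').trans
        (Cfsg.Agent.H597.S8.E3.cc_le_nc ha' hb' hne' hc' ha hb hc)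
      rw [show 324 = 162 * 2 by norm_num, pow_mul] at h1
      exact (Nat.pow_le_pow_iff_left (by norm_num)).1 h1
  · by_cases hc : Commute a b
    · exact Cfsg.Agent.H597.S8.E3.i_cc hr h3 hexp hfix ha hb hne hc
    · exact le_trans (Nat.pow_le_pow_right (by norm_num) (by norm_num))
        (Cfsg.Agent.H597.S8.E3.i_nc hr h3 hexp hfix ha hb hc)

theorem lower {i : ℕ} (h : 2 ^ 162 ≤ i ^ 4) : 2 ^ 36 ≤ i := by
  by_contra hlt
  push Not at hlt
  exact absurd (h.trans (Nat.pow_le_pow_left hlt.le 4)) (by norm_num)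

/-- **the index of every element** -/
theorem cod [Nontrivial A] {r : ℕ} (hr : r.Prime) (hexp : ∀ x : A, r • x = 0)
    (hfix : ∀ x : A, (∀ g : Fi24', g • x = x) → x = 0) {z : Fi24'} (hz : z ≠ 1) : 2 ^ 36 ≤ (fx A z).index :=
  lower (Cfsg.Agent.H273.S8.F24.allz (b := 2 ^ 162) (fun _ _ hd he hne => bd hr hexp hfix hd he hne) hz)

end Act

open Cfsg.Agent.H704.S8

/-- **`Chief` for `Fi24'`** -/
theorem chief {X : Type v} [Group X] [Finite X] (hX : Cfsg.Spor.IsoFi24' X) (D : Set ℕ) : Chief.{u} 2 D X := by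
  have hk := Cfsg.Agent.H217.S8.KFi24B.KB hX
  obtain ⟨e⟩ := hX
  refine chief_of_codim (q := 2 ^ 36) D (by norm_num) hk (by norm_num) ?_ ?_
  · rw [Nat.card_congr e.toEquiv, show Nat.card Fi24' = 1255205709190661721292800 from
      Cfsg.Agent.R08.FiTwentyFour.card_commutator]
    norm_num
  · intro A _ _ _ r hr hexp hfix hA z hz
    letI act : DistribMulAction Fi24' A := DistribMulAction.compHom A (e.symm : Fi24' →* X)
    have hact : ∀ (g : Fi24') (x : A), g • x = e.symm g • x := fun _ _ => rfl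
    have h1 := cod (A := A) hr hexp (fun x hx => hfix x fun g => by
      have := hx (e g)
      rwa [hact, e.symm_apply_apply] at this) (z := e z) (fun h => hz (e.injective (by rw [h, map_one])))
    have h2 : fx A (e z) = fx A z := by
      ext x
      rw [mem_fx, mem_fx, hact, e.symm_apply_apply]
    rwa [h2] at h1

end Cfsg.Agent.H58.S8.Fi24
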