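import Cfsg.Agent.H320.SD.Codim

/-!
# The commutator step for 3-transposition groups (helper58, helper26, for S4908, `Fi24'`)

`G` a group with a class `T` of 3-transpositions, `X` a subgroup containing the products of two of them. If
`b ≤ |A : C_A(t s)|` for all `t ≠ s` in `T`, then `b ≤ |A : C_A(z)|^2` for all elements `z` of `X` of prime order at least
five, and for those of order two and three unless all orbits on `T` are lines.
-/

set_option autoImplicit false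
set_option linter.unusedSectionVars false

namespace Cfsg.Agent.H58.S8.F24Step

open Cfsg Cfsg.Agent.H320.SD

universe u v

/-- the data -/
structure Dat {G : Type v} [Group G] (T : Set G) (X : Subgroup G) : Prop where
  conj : ∀ t ∈ T, ∀ g : G, g * t * g⁻¹ ∈ T
  inv : ∀ t ∈ T, t * t = 1
  three : ∀ t ∈ T, ∀ s ∈ T, t * s = s * t ∨ t * s * t = s * t * s
  mem : ∀ t ∈ T, ∀ s ∈ T, t * s ∈ X
  gen : ∀ z ∈ X, (∀ t ∈ T, z * t * z⁻¹ = t) → z = 1

section Step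

variable {G : Type v} [Group G] {T : Set G} {X : Subgroup G} {A : Type u} [AddCommGroup A] [Finite A]
  [DistribMulAction X A]

/-- the bound for the products of two distinct transpositions -/
def Bd (T : Set G) (X : Subgroup G) (A : Type u) [AddCommGroup A] [DistribMulAction X A] (b : ℕ) : Prop :=
  ∀ t ∈ T, ∀ s ∈ T, t ≠ s → ∀ w : X, (w : G) = t * s → b ≤ (fx A w).index

theorem step (hD : Dat T X) {b : ℕ} (hb : Bd T X A b) (z : X) {t : G} (ht : t ∈ T)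
    (hne : ((z : G) * t * (z : G)⁻¹) * ((z : G) * ((z : G) * t * (z : G)⁻¹) * (z : G)⁻¹) *
      ((z : G) * t * (z : G)⁻¹) ≠ t) :
    b ≤ (fx A z).index ^ 2 := by
  obtain ⟨t1, e1⟩ : ∃ t1, t1 = (z : G) * t * (z : G)⁻¹ := ⟨_, rfl⟩
  obtain ⟨t2, e2⟩ : ∃ t2, t2 = (z : G) * t1 * (z : G)⁻¹ := ⟨_, rfl⟩
  rw [← e1, ← e2] at hne
  have m1 : t1 ∈ T := e1 ▸ hD.conj t ht z
  have m2 : t2 ∈ T := e2 ▸ hD.conj t1 m1 z
  have i0 : t⁻¹ = t := inv_eq_of_mul_eq_one_left (hD.inv t ht)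
  have i1 : t1⁻¹ = t1 := inv_eq_of_mul_eq_one_left (hD.inv t1 m1)
  have h := index_comm (A := A) z ⟨t * t1, hD.mem t ht t1 m1⟩
  refine le_trans (hb (t1 * t2 * t1) ?_ t ht hne _ ?_) h
  · have := hD.conj t2 m2 t1
    rwa [i1] at this
  · show (z : G) * (t * t1 * (z : G)⁻¹ * (t * t1)⁻¹) = _
    calc (z : G) * (t * t1 * (z : G)⁻¹ * (t * t1)⁻¹)
        = ((z : G) * t * (z : G)⁻¹) * ((z : G) * t1 * (z : G)⁻¹) * t1⁻¹ * t⁻¹ := by group
      _ = t1 * t2 * t1 * t := by rw [← e1, ← e2, i1, i0]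

theorem step_fix (hD : Dat T X) {b : ℕ} (hb : Bd T X A b) (z : X) {t e : G} (ht : t ∈ T) (he : e ∈ T)
    (hze : (z : G) * e * (z : G)⁻¹ = e) (hne : (z : G) * t * (z : G)⁻¹ ≠ t) :
    b ≤ (fx A z).index ^ 2 := by
  have i0 : t⁻¹ = t := inv_eq_of_mul_eq_one_left (hD.inv t ht)
  have h := index_comm (A := A) z ⟨t * e, hD.mem t ht e he⟩
  refine le_trans (hb _ (hD.conj t ht z) t ht hne _ ?_) h
  show (z : G) * (t * e * (z : G)⁻¹ * (t * e)⁻¹) = _
  calc (z : G) * (t * e * (z : G)⁻¹ * (t * e)⁻¹)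
      = ((z : G) * t * (z : G)⁻¹) * ((z : G) * e * (z : G)⁻¹) * e⁻¹ * t⁻¹ := by group
    _ = (z : G) * t * (z : G)⁻¹ * t := by rw [hze, i0]; group

theorem step_fix' (hD : Dat T X) {b : ℕ} (hb : Bd T X A b) {z : X} (hz : z ≠ 1) {e : G} (he : e ∈ T)
    (hze : (z : G) * e * (z : G)⁻¹ = e) : b ≤ (fx A z).index ^ 2 := by
  by_contra hno
  apply hz
  apply Subtype.ext
  refine hD.gen z z.2 fun t ht => ?_
  by_contra h
  exact hno (step_fix hD hb z ht he hze h)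

/-- if all orbits are lines then `z ^ 6 = 1` -/
theorem pow_six (hD : Dat T X) (z : X)
    (hall : ∀ t ∈ T, ((z : G) * t * (z : G)⁻¹) * ((z : G) * ((z : G) * t * (z : G)⁻¹) * (z : G)⁻¹) *
      ((z : G) * t * (z : G)⁻¹) = t) : z ^ 6 = 1 := by
  apply Subtype.ext
  refine hD.gen _ (z ^ 6).2 fun t ht => ?_
  obtain ⟨t1, e1⟩ : ∃ t1, t1 = (z : G) * t * (z : G)⁻¹ := ⟨_, rfl⟩
  obtain ⟨t2, e2⟩ : ∃ t2, t2 = (z : G) * t1 * (z : G)⁻¹ := ⟨_, rfl⟩
  have m1 : t1 ∈ T := e1 ▸ hD.conj t ht z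
  have i0 : t * t = 1 := hD.inv t ht
  have i1 : t1 * t1 = 1 := hD.inv t1 m1
  have h0 := hall t ht
  rw [← e1, ← e2] at h0
  have h2 : t2 = t1 * t * t1 := by
    rw [← h0]
    calc t2 = (t1 * t1) * t2 * (t1 * t1) := by rw [i1]; group
      _ = _ := by group
  rw [Subgroup.coe_pow]
  rcases hD.three t ht t1 m1 with hc | hc
  · -- commuting
    have h3 : (z : G) ^ 2 * t * ((z : G) ^ 2)⁻¹ = t := by
      calc (z : G) ^ 2 * t * ((z : G) ^ 2)⁻¹ = (z : G) * ((z : G) * t * (z : G)⁻¹) * (z : G)⁻¹ := by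
            simp only [pow_succ, pow_zero, one_mul, mul_inv_rev, mul_assoc]
        _ = t1 * t * t1 := by rw [← e1, ← e2, h2]
        _ = t := by rw [← hc, mul_assoc, i1, mul_one]
    calc (z : G) ^ 6 * t * ((z : G) ^ 6)⁻¹
        = (z : G) ^ 2 * ((z : G) ^ 2 * ((z : G) ^ 2 * t * ((z : G) ^ 2)⁻¹) * ((z : G) ^ 2)⁻¹) * ((z : G) ^ 2)⁻¹ := by group
      _ = t := by rw [h3, h3, h3]
  · -- a line
    have h3 : (z : G) * t2 * (z : G)⁻¹ = t := by
      rw [h2]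
      calc (z : G) * (t1 * t * t1) * (z : G)⁻¹
          = ((z : G) * t1 * (z : G)⁻¹) * ((z : G) * t * (z : G)⁻¹) * ((z : G) * t1 * (z : G)⁻¹) := by group
        _ = (t1 * t * t1) * t1 * (t1 * t * t1) := by rw [← e1, ← e2, h2]
        _ = t1 * t * (t1 * t1) * t1 * t * t1 := by group
        _ = t1 * (t * t1 * t) * t1 := by rw [i1]; group
        _ = t1 * (t1 * t * t1) * t1 := by rw [hc]
        _ = (t1 * t1) * t * (t1 * t1) := by group
        _ = t := by rw [i1]; group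
    have h4 : (z : G) ^ 3 * t * ((z : G) ^ 3)⁻¹ = t := by
      calc (z : G) ^ 3 * t * ((z : G) ^ 3)⁻¹
          = (z : G) * ((z : G) * ((z : G) * t * (z : G)⁻¹) * (z : G)⁻¹) * (z : G)⁻¹ := by
            simp only [pow_succ, pow_zero, one_mul, mul_inv_rev, mul_assoc]
        _ = t := by rw [← e1, ← e2, h3]
    calc (z : G) ^ 6 * t * ((z : G) ^ 6)⁻¹
        = (z : G) ^ 3 * ((z : G) ^ 3 * t * ((z : G) ^ 3)⁻¹) * ((z : G) ^ 3)⁻¹ := by group
      _ = t := by rw [h4, h4]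

/-- **the bound for elements of prime order** -/
theorem prime (hD : Dat T X) {b : ℕ} (hb : Bd T X A b)
    (h2 : ∀ z : X, orderOf z = 2 → ∃ e ∈ T, (z : G) * e * (z : G)⁻¹ = e)
    (h3 : ∀ z : X, orderOf z = 3 → (∃ e ∈ T, (z : G) * e * (z : G)⁻¹ = e) ∨
      ∃ t ∈ T, ((z : G) * t * (z : G)⁻¹) * ((z : G) * ((z : G) * t * (z : G)⁻¹) * (z : G)⁻¹) *
        ((z : G) * t * (z : G)⁻¹) ≠ t)
    {z : X} (hz : (orderOf z).Prime) : b ≤ (fx A z).index ^ 2 := by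
  have hz1 : z ≠ 1 := by
    rintro rfl
    rw [orderOf_one] at hz
    exact Nat.not_prime_one hz
  by_cases hall : ∀ t ∈ T, ((z : G) * t * (z : G)⁻¹) * ((z : G) * ((z : G) * t * (z : G)⁻¹) * (z : G)⁻¹) *
      ((z : G) * t * (z : G)⁻¹) = t
  · have h6 : orderOf z ∣ 6 := orderOf_dvd_of_pow_eq_one (pow_six hD z hall)
    have h7 : orderOf z = 2 ∨ orderOf z = 3 := by
      have hle := Nat.le_of_dvd (by norm_num) h6
      generalize orderOf z = n at h6 hle hz ⊢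
      interval_cases n <;> first | omega | (exfalso; revert hz; norm_num)
    rcases h7 with h7 | h7
    · obtain ⟨e, he, hze⟩ := h2 z h7
      exact step_fix' hD hb hz1 he hze
    · rcases h3 z h7 with ⟨e, he, hze⟩ | ⟨t, ht, hne⟩
      · exact step_fix' hD hb hz1 he hze
      · exact absurd (hall t ht) hne
  · push Not at hall
    obtain ⟨t, ht, hne⟩ := hall
    exact step hD hb z ht hne

/-- **the bound for all elements** -/
theorem all (hD : Dat T X) [Finite X] {b : ℕ} (hb : Bd T X A b)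
    (h2 : ∀ z : X, orderOf z = 2 → ∃ e ∈ T, (z : G) * e * (z : G)⁻¹ = e)
    (h3 : ∀ z : X, orderOf z = 3 → (∃ e ∈ T, (z : G) * e * (z : G)⁻¹ = e) ∨
      ∃ t ∈ T, ((z : G) * t * (z : G)⁻¹) * ((z : G) * ((z : G) * t * (z : G)⁻¹) * (z : G)⁻¹) *
        ((z : G) * t * (z : G)⁻¹) ≠ t)
    {z : X} (hz : z ≠ 1) : b ≤ (fx A z).index ^ 2 := by
  have ho : orderOf z ≠ 1 := by rwa [Ne, orderOf_eq_one_iff]
  obtain ⟨p, hp, hdvd⟩ := Nat.exists_prime_and_dvd ho
  obtain ⟨m, hm⟩ := hdvd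
  have hpos : 0 < orderOf z := orderOf_pos z
  have hm0 : m ≠ 0 := by rintro rfl; omega
  have h4 : orderOf (z ^ m) = p := by
    rw [orderOf_pow' z hm0, hm]
    rw [Nat.gcd_eq_right (Dvd.intro_left p rfl), Nat.mul_div_cancel _ (Nat.pos_of_ne_zero hm0)]
  have h5 : b ≤ (fx A (z ^ m)).index ^ 2 := prime hD hb h2 h3 (h4 ▸ hp)
  refine h5.trans (Nat.pow_le_pow_left ?_ 2)
  refine AddSubgroup.index_antitone ?_
  intro x hx
  rw [mem_fx] at hx ⊢
  clear h4 h5 hm hm0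
  induction m with
  | zero => rw [pow_zero, one_smul]
  | succ m ih => rw [pow_succ, mul_smul, hx, ih]

end Step

end Cfsg.Agent.H58.S8.F24Step
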